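import Groth.Agent.ConormalInjLib.Main
import Groth.Agent.S9375

/-!
# Injectivity of the map of conormal sheaves along a smooth morphism
-/

set_option autoImplicit false
set_option linter.style.haveILetI false
universe u
open CategoryTheory CategoryTheory.Limits AlgebraicGeometry TopologicalSpace Opposite TensorProduct

noncomputable section

namespace ConormalInjLib

/-- Kernels inject modulo squares along a formally smooth map. -/
theorem mem_ker_sq_of_formallySmooth {A B C : Type u} [CommRing A] [CommRing B] [CommRing C] [Algebra A B]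
    [Algebra A C] [Algebra B C] [IsScalarTower A B C] [Algebra.FormallySmooth A B]
    (hA : Function.Surjective (algebraMap A C)) {y : A} (h : algebraMap A B y ∈ RingHom.ker (algebraMap B C) ^ 2) :
    y ∈ RingHom.ker (algebraMap A C) ^ 2 := by
  have hg : Function.Surjective (Algebra.ofId A C).kerSquareLift := fun s => by
    obtain ⟨p, rfl⟩ := hA s
    exact ⟨Ideal.Quotient.mk _ p, rfl⟩
  have hsq : RingHom.ker (Algebra.ofId A C).kerSquareLift.toRingHom ^ 2 = ⊥ := by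
    rw [AlgHom.ker_kerSquareLift, Ideal.cotangentIdeal_square]
  have hnil : IsNilpotent (RingHom.ker (Algebra.ofId A C).kerSquareLift.toRingHom) := ⟨2, hsq⟩
  let σ := Algebra.FormallySmooth.liftOfSurjective (IsScalarTower.toAlgHom A B C) _ hg hnil
  have hσ : ∀ b, (Algebra.ofId A C).kerSquareLift (σ b) = algebraMap B C b :=
    fun b => Algebra.FormallySmooth.liftOfSurjective_apply (IsScalarTower.toAlgHom A B C) _ hg hnil b
  have hI : (RingHom.ker (algebraMap B C)).map σ.toRingHom ≤ RingHom.ker (Algebra.ofId A C).kerSquareLift.toRingHom := by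
    rw [Ideal.map_le_iff_le_comap]
    intro b hb
    exact (hσ b).trans hb
  have h1 : σ (algebraMap A B y) ∈ RingHom.ker (Algebra.ofId A C).kerSquareLift.toRingHom ^ 2 := by
    refine Ideal.pow_right_mono hI 2 ?_
    rw [← Ideal.map_pow]
    exact Ideal.mem_map_of_mem _ h
  rw [hsq, Ideal.mem_bot, AlgHom.commutes] at h1
  exact Ideal.Quotient.eq_zero_iff_mem.mp h1

/-- Elements of a module killed by tensoring with a quotient. -/
theorem mem_smul_top_of_tmul_eq_zero {B C Q : Type u} [CommRing B] [CommRing C] [Algebra B C] [AddCommGroup Q]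
    [Module B Q] (hB : Function.Surjective (algebraMap B C)) {s : Q} (h : (1 : C) ⊗ₜ[B] s = 0) :
    s ∈ RingHom.ker (algebraMap B C) • (⊤ : Submodule B Q) := by
  obtain ⟨w, hw⟩ := (rTensor_exact Q (LinearMap.exact_subtype_ker_map (Algebra.linearMap B C)) hB
    ((1 : B) ⊗ₜ[B] s)).mp (by simpa using h)
  have h2 : ∀ w, TensorProduct.lid B Q ((LinearMap.ker (Algebra.linearMap B C)).subtype.rTensor Q w) ∈
      RingHom.ker (algebraMap B C) • (⊤ : Submodule B Q) := by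
    intro w
    induction w using TensorProduct.induction_on with
    | zero => simp
    | tmul a m => simpa using Submodule.smul_mem_smul (show (a : B) ∈ RingHom.ker (algebraMap B C) from a.2) (Submodule.mem_top (x := m))
    | add a b ha hb => rw [map_add, map_add]; exact add_mem ha hb
  have := h2 w
  rwa [hw, TensorProduct.lid_tmul, one_smul] at this

variable {Z X : Scheme.{u}} (i : Z ⟶ X) [IsImmersion i] [QuasiCompact i]

/-- A section of the ideal dying in the conormal sheaf on a chart lies in the square of the ideal. -/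
theorem mem_ker_sq_of_conormalSect_eq_zero {W : X.Opens} (hW : IsAffineOpen W) (hWc : W ≤ i.coborderRange)
    (s : Γ(ClSub.idealMod i.ker, W)) (h : OmegaSh.conormalSect i W s = 0) :
    OmegaSh.idealSect i.ker W s ∈ RingHom.ker (i.app W).hom ^ 2 := by
  obtain ⟨hU', hsurj⟩ := chart_of_le i hW hWc
  let Q := ClSub.idealMod i.ker
  haveI : Coh.IsQCoh Q := SweepSix.ConormalSpec.isQCoh_idealMod _
  letI := (i.app W).hom.toAlgebra
  have halg : ∀ r, algebraMap Γ(X, W) Γ(Z, i ⁻¹ᵁ W) r = (i.appLE W (i ⁻¹ᵁ W) le_rfl).hom r := fun r => by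
    rw [← Scheme.Hom.app_eq_appLE]; rfl
  letI : Module Γ(X, W) Γ(KFlatLib.pb i Q, i ⁻¹ᵁ W) := Module.compHom _ (i.app W).hom
  haveI : IsScalarTower Γ(X, W) Γ(Z, i ⁻¹ᵁ W) Γ(KFlatLib.pb i Q, i ⁻¹ᵁ W) :=
    IsScalarTower.of_algebraMap_smul fun a t => rfl
  let θ : Γ(Q, W) →ₗ[Γ(X, W)] Γ(KFlatLib.pb i Q, i ⁻¹ᵁ W) :=
    { toFun := KFlatLib.puSecLE i Q le_rfl
      map_add' := map_add _
      map_smul' := fun r m => (KFlatLib.puSecLE_smul i Q le_rfl r m).trans (by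
        rw [← Scheme.Hom.app_eq_appLE]; rfl) }
  have hθ : IsBaseChange Γ(Z, i ⁻¹ᵁ W) θ :=
    KFlatLib.isBaseChange_puSec i Q hW hU' le_rfl halg θ fun _ => rfl
  have h1 : (1 : Γ(Z, i ⁻¹ᵁ W)) ⊗ₜ[Γ(X, W)] s = 0 := by
    apply hθ.equiv.injective
    rw [IsBaseChange.equiv_tmul, one_smul, map_zero]
    show KFlatLib.puSecLE i Q (le_refl (i ⁻¹ᵁ W)) s = 0
    rw [KFlatLib.puSecLE_apply, Subsingleton.elim (homOfLE (le_refl (i ⁻¹ᵁ W))).op (𝟙 _),
      CategoryTheory.Functor.map_id]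
    exact h
  have h2 := mem_smul_top_of_tmul_eq_zero (B := Γ(X, W)) (C := Γ(Z, i ⁻¹ᵁ W)) (Q := Γ(Q, W)) hsurj h1
  refine Submodule.smul_induction_on h2 (fun a ha m _ => ?_) (fun a b ha hb => ?_)
  · rw [ConormalSecLib.idealSect_smul, pow_two]
    exact Ideal.mul_mem_mul ha (ConormalSecLib.app_idealSect i W m)
  · rw [map_add]; exact add_mem ha hb

/-- Sections of the ideal in the square die in the conormal sheaf. -/
theorem conormalSect_eq_zero_of_mem_ker_sq {W : X.Opens} (s : Γ(ClSub.idealMod i.ker, W))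
    (h : OmegaSh.idealSect i.ker W s ∈ RingHom.ker (i.app W).hom ^ 2) : OmegaSh.conormalSect i W s = 0 := by
  have main : ∀ y ∈ RingHom.ker (i.app W).hom ^ 2, ∃ m : Γ(ClSub.idealMod i.ker, W),
      OmegaSh.idealSect i.ker W m = y ∧ OmegaSh.conormalSect i W m = 0 := by
    intro y hy
    rw [pow_two] at hy
    refine Submodule.mul_induction_on hy (fun a ha b hb => ?_) fun a b ⟨m, hm, hm'⟩ ⟨n, hn, hn'⟩ =>
      ⟨m + n, by rw [map_add, hm, hn], by rw [map_add, hm', hn', add_zero]⟩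
    refine ⟨a • ConormalSecLib.lift i W b hb, ?_, ?_⟩
    · exact (ConormalSecLib.idealSect_smul i W a _).trans (congrArg (a * ·) (ConormalSecLib.idealSect_lift i W b hb))
    · refine (OmegaSh.pullSect_smul i _ W a _).trans ?_
      rw [show i.app W a = 0 from ha, zero_smul]
      rfl
  obtain ⟨m, hm, hm'⟩ := main _ h
  rwa [ConormalSecLib.idealSect_injective i W hm] at hm'

omit [IsImmersion i] [QuasiCompact i] in
theorem appLE_self (W : X.Opens) : i.appLE W (i ⁻¹ᵁ W) le_rfl = i.app W := (Scheme.Hom.app_eq_appLE i).symm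

theorem mono_conormalMap {Y : Scheme.{u}} (p : X ⟶ Y) [Smooth p] (j : Z ⟶ Y) [IsImmersion j] [QuasiCompact j]
    (hij : i ≫ p = j)
    {ψ : (Scheme.Modules.pullback (𝟙 Z)).obj (Omega.conormal j) ⟶ Omega.conormal i}
    (hψ : OmegaSh.IsConormalMap i j p (𝟙 Z) ψ) : Mono ψ := by
  haveI : Coh.IsQCoh (ClSub.idealMod j.ker) := SweepSix.ConormalSpec.isQCoh_idealMod _
  haveI : Coh.IsQCoh (ClSub.idealMod i.ker) := SweepSix.ConormalSpec.isQCoh_idealMod _
  haveI : Coh.IsQCoh (Omega.conormal j) := KFlatLib.isQCoh_pullback j (ClSub.idealMod j.ker)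
  haveI : Coh.IsQCoh (Omega.conormal i) := KFlatLib.isQCoh_pullback i (ClSub.idealMod i.ker)
  haveI : Coh.IsQCoh ((Scheme.Modules.pullback (𝟙 Z)).obj (Omega.conormal j)) :=
    KFlatLib.isQCoh_pullback (𝟙 Z) (Omega.conormal j)
  refine Groth.Agent.S13458.mono_of_injective_charts ψ fun z => ?_
  obtain ⟨V₀, hV₀, hzV₀, -, hV₀c⟩ := exists_chart j z ⊤ trivial
  obtain ⟨hU₀, hs₀⟩ := chart_of_le j hV₀ hV₀c
  have hiz : i z ∈ p ⁻¹ᵁ V₀ := by
    show p (i z) ∈ V₀
    rw [← Scheme.Hom.comp_apply, hij]; exact hzV₀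
  obtain ⟨W₀, hW₀, hzW₀, hW₀V, hW₀c⟩ := exists_chart i z (p ⁻¹ᵁ V₀) hiz
  obtain ⟨cb, hcle, hzc⟩ := hU₀.exists_basicOpen_le (V := i ⁻¹ᵁ W₀) ⟨z, hzW₀⟩ hzV₀
  obtain ⟨c, rfl⟩ := hs₀ cb
  let V := Y.basicOpen c
  have hV : IsAffineOpen V := hV₀.basicOpen c
  have hVc : V ≤ j.coborderRange := le_trans (Y.basicOpen_le c) hV₀c
  obtain ⟨hU, hsj⟩ := chart_of_le j hV hVc
  let W := X.basicOpen (p.appLE V₀ W₀ hW₀V c)
  have hW : IsAffineOpen W := hW₀.basicOpen _
  have hWeq : W = W₀ ⊓ p ⁻¹ᵁ V := Scheme.basicOpen_appLE p W₀ V₀ hW₀V c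
  have hWV : W ≤ p ⁻¹ᵁ V := hWeq.le.trans inf_le_right
  have hWc : W ≤ i.coborderRange := (hWeq.le.trans inf_le_left).trans hW₀c
  obtain ⟨hU2, hsi⟩ := chart_of_le i hW hWc
  have hUV : j ⁻¹ᵁ V = Z.basicOpen (j.app V₀ c) := Scheme.preimage_basicOpen j c
  have hjp : j ⁻¹ᵁ V = i ⁻¹ᵁ (p ⁻¹ᵁ V) := by rw [← hij, Scheme.Hom.comp_preimage]
  have heq : i ⁻¹ᵁ W = j ⁻¹ᵁ V := by
    refine le_antisymm ((i.preimage_mono hWV).trans hjp.ge) fun x hx => ?_
    rw [hWeq]
    exact ⟨hcle (hUV.le hx), hjp.le hx⟩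
  refine ⟨j ⁻¹ᵁ V, hU, show z ∈ j ⁻¹ᵁ V from hUV.ge hzc, ?_⟩
  -- sections of the pullback along the identity
  let M := Omega.conormal j
  have hid : ∀ (t : Γ(KFlatLib.pb (𝟙 Z) M, j ⁻¹ᵁ V)), ∃ s' : Γ(ClSub.idealMod j.ker, V),
      KFlatLib.puSec (𝟙 Z) (OmegaSh.conormalSect j V s') = t := by
    intro t
    letI := (j.app V).hom.toAlgebra
    let Q := ClSub.idealMod j.ker
    have hb1 : ∀ t : Γ(KFlatLib.pb (𝟙 Z) M, j ⁻¹ᵁ V), ∃ m : Γ(M, j ⁻¹ᵁ V), KFlatLib.puSec (𝟙 Z) m = t := fun t =>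
      ⟨((Scheme.Modules.pullbackId Z).hom.app M).app (j ⁻¹ᵁ V) t, by
        refine (OmegaAffLib.pullbackId_inv_app M (j ⁻¹ᵁ V) _).symm.trans ?_
        rw [← ConcreteCategory.comp_apply, ← Scheme.Modules.Hom.comp_app, Iso.hom_inv_id_app]
        rfl⟩
    have hb2 : ∀ m : Γ(M, j ⁻¹ᵁ V), ∃ s' : Γ(Q, V), OmegaSh.conormalSect j V s' = m := by
      intro m
      have halg : ∀ r, algebraMap Γ(Y, V) Γ(Z, j ⁻¹ᵁ V) r = (j.appLE V (j ⁻¹ᵁ V) le_rfl).hom r := fun r => by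
        rw [appLE_self]; rfl
      letI : Module Γ(Y, V) Γ(KFlatLib.pb j Q, j ⁻¹ᵁ V) := Module.compHom _ (j.app V).hom
      haveI : IsScalarTower Γ(Y, V) Γ(Z, j ⁻¹ᵁ V) Γ(KFlatLib.pb j Q, j ⁻¹ᵁ V) :=
        IsScalarTower.of_algebraMap_smul fun a t => rfl
      let θ : Γ(Q, V) →ₗ[Γ(Y, V)] Γ(KFlatLib.pb j Q, j ⁻¹ᵁ V) :=
        { toFun := KFlatLib.puSecLE j Q le_rfl
          map_add' := map_add _
          map_smul' := fun r m => (KFlatLib.puSecLE_smul j Q le_rfl r m).trans (by rw [appLE_self]; rfl) }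
      have hθ := KFlatLib.isBaseChange_puSec j Q hV hU le_rfl halg θ fun _ => rfl
      obtain ⟨w, rfl⟩ := hθ.equiv.surjective m
      induction w using TensorProduct.induction_on with
      | zero => exact ⟨0, (map_zero (OmegaSh.conormalSect j V).hom).trans (map_zero _).symm⟩
      | tmul a m =>
        obtain ⟨b, rfl⟩ := hsj a
        refine ⟨b • m, ?_⟩
        rw [IsBaseChange.equiv_tmul]
        refine (OmegaSh.pullSect_smul j _ V b m).trans ?_
        show _ = j.app V b • KFlatLib.puSecLE j Q le_rfl m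
        rw [KFlatLib.puSecLE_apply, Subsingleton.elim (homOfLE (le_refl (j ⁻¹ᵁ V))).op (𝟙 _),
          CategoryTheory.Functor.map_id]
        rfl
      | add a b ha hb =>
        obtain ⟨x, hx⟩ := ha
        obtain ⟨y, hy⟩ := hb
        exact ⟨x + y, by rw [map_add, map_add, hx, hy]; rfl⟩
    obtain ⟨m, rfl⟩ := hb1 t
    obtain ⟨s', rfl⟩ := hb2 m
    exact ⟨s', rfl⟩
  refine (injective_iff_map_eq_zero (ψ.app (j ⁻¹ᵁ V)).hom).mpr fun t ht => ?_
  obtain ⟨s', rfl⟩ := hid t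
  let y := OmegaSh.idealSect j.ker V s'
  have hy : i.app (p ⁻¹ᵁ V) (p.app V y) = 0 := by
    rw [Scheme.Hom.app_eq_appLE p,
      ConormalSeqLib.app_appLE p i j hij le_rfl (ConormalSeqLib.preimage_le p i j hij le_rfl),
      ConormalSecLib.app_idealSect, map_zero]
  let s := ConormalSecLib.lift i (p ⁻¹ᵁ V) _ hy
  have h₂ : j ⁻¹ᵁ V ≤ i ⁻¹ᵁ (p ⁻¹ᵁ V) := hjp.le
  have h1 := hψ.2 V s' s (ConormalSecLib.idealSect_lift i _ _ hy) (j ⁻¹ᵁ V) le_rfl h₂
  replace h1 := (ConormalSeqLib.hidM _ _).symm.trans h1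
  have h3 : (Omega.conormal i).presheaf.map (homOfLE h₂).op (OmegaSh.conormalSect i (p ⁻¹ᵁ V) s) = 0 :=
    h1.symm.trans ht
  let sW := (ClSub.idealMod i.ker).presheaf.map (homOfLE hWV).op s
  have h4 : OmegaSh.conormalSect i W sW = 0 := by
    refine (OmegaSh.pullSect_map i _ hWV s).trans ?_
    rw [← map_zero ((Omega.conormal i).presheaf.map (homOfLE heq.le).op).hom, ← h3]
    exact (ConormalSeqLib.resM _ _ _ _).symm
  have h5 := mem_ker_sq_of_conormalSect_eq_zero i hW hWc sW h4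
  rw [ConormalSecLib.idealSect_map, ConormalSecLib.idealSect_lift, Scheme.Hom.app_eq_appLE p,
    ← ConcreteCategory.comp_apply, Scheme.Hom.appLE_map] at h5
  letI algAB : Algebra Γ(Y, V) Γ(X, W) := (p.appLE V W hWV).hom.toAlgebra
  letI algBC : Algebra Γ(X, W) Γ(Z, i ⁻¹ᵁ W) := (i.app W).hom.toAlgebra
  letI algAC : Algebra Γ(Y, V) Γ(Z, i ⁻¹ᵁ W) := ((i.app W).hom.comp (p.appLE V W hWV).hom).toAlgebra
  haveI : IsScalarTower Γ(Y, V) Γ(X, W) Γ(Z, i ⁻¹ᵁ W) := IsScalarTower.of_algebraMap_eq' rfl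
  haveI : Algebra.Smooth Γ(Y, V) Γ(X, W) := (p.smooth_appLE hV hW hWV).toAlgebra
  have hcomp : ∀ a, algebraMap Γ(Y, V) Γ(Z, i ⁻¹ᵁ W) a =
      Z.presheaf.map (homOfLE heq.le).op (j.app V a) := fun a => by
    show i.app W (p.appLE V W hWV a) = _
    simp only [← ConcreteCategory.comp_apply, Scheme.Hom.app_eq_appLE, Scheme.Hom.appLE_comp_appLE,
      Scheme.Hom.appLE_map]
    exact congr($(OmegaSh.appLE_congr_hom hij _ _) a)
  have hres : ∀ {A B : Z.Opens} (e : A = B),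
      Function.Bijective (Z.presheaf.map (homOfLE e.le).op) := by
    rintro A B rfl
    exact ⟨fun a b h => by rwa [ConormalSeqLib.hidX, ConormalSeqLib.hidX] at h, fun a => ⟨a, ConormalSeqLib.hidX a⟩⟩
  have h6 := mem_ker_sq_of_formallySmooth (A := Γ(Y, V)) (B := Γ(X, W)) (C := Γ(Z, i ⁻¹ᵁ W)) (y := y) (fun c => by
    obtain ⟨d, rfl⟩ := (hres heq).2 c
    obtain ⟨a, rfl⟩ := hsj d
    exact ⟨a, hcomp a⟩) h5
  have h7 : y ∈ RingHom.ker (j.app V).hom ^ 2 := by
    have hker : RingHom.ker (algebraMap Γ(Y, V) Γ(Z, i ⁻¹ᵁ W)) = RingHom.ker (j.app V).hom := by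
      ext a
      rw [RingHom.mem_ker, RingHom.mem_ker, hcomp, map_eq_zero_iff _ (hres heq).1]
    rwa [hker] at h6
  rw [conormalSect_eq_zero_of_mem_ker_sq j s' h7]
  exact map_zero ((Scheme.Modules.pullbackPushforwardAdjunction (𝟙 Z)).unit.app M |>.app (j ⁻¹ᵁ V)).hom

end ConormalInjLib
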