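import Groth.Agent.OmegaAffLib.Apps
import Groth.Agent.OmegaAffLib.Consequences
import Groth.Agent.ConormalSecLib.Basic
import Groth.Agent.SweepSix.ConormalSpec
import Groth.Agent.FComplLib.Thicken
import Groth.Agent.S13458
import Mathlib.RingTheory.Smooth.Kaehler

/-!
# Injectivity of the conormal map to differentials
-/

set_option autoImplicit false
set_option linter.style.haveILetI false
universe u
open CategoryTheory CategoryTheory.Limits AlgebraicGeometry TopologicalSpace Opposite TensorProduct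

noncomputable section

namespace ConormalInjLib

/-- An element of the kernel with vanishing differential lies in the square of the kernel, if the quotient is
formally smooth. -/
theorem mem_ker_sq_of_tmul_D_eq_zero {R P S : Type u} [CommRing R] [CommRing P] [CommRing S] [Algebra R P]
    [Algebra R S] [Algebra P S] [IsScalarTower R P S] [Algebra.FormallySmooth R S]
    (hf : Function.Surjective (algebraMap P S)) {x : P} (hx : x ∈ RingHom.ker (algebraMap P S))
    (h : (1 : S) ⊗ₜ[P] KaehlerDifferential.D R P x = 0) : x ∈ RingHom.ker (algebraMap P S) ^ 2 := by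
  have hg : Function.Surjective (IsScalarTower.toAlgHom R P S).kerSquareLift := fun s => by
    obtain ⟨p, rfl⟩ := hf s
    exact ⟨Ideal.Quotient.mk _ p, rfl⟩
  have hsq : RingHom.ker (IsScalarTower.toAlgHom R P S).kerSquareLift.toRingHom ^ 2 = ⊥ := by
    rw [AlgHom.ker_kerSquareLift, Ideal.cotangentIdeal_square]
  have hnil : IsNilpotent (RingHom.ker (IsScalarTower.toAlgHom R P S).kerSquareLift.toRingHom) := ⟨2, hsq⟩
  let σ := Algebra.FormallySmooth.liftOfSurjective (AlgHom.id R S) _ hg hnil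
  have hσ : (IsScalarTower.toAlgHom R P S).kerSquareLift.comp σ = AlgHom.id R S :=
    AlgHom.ext fun s => Algebra.FormallySmooth.liftOfSurjective_apply (AlgHom.id R S) _ hg hnil s
  obtain ⟨l, hl⟩ := (retractionKerCotangentToTensorEquivSection (R := R) hf).symm ⟨σ, hσ⟩
  have h1 := LinearMap.congr_fun hl (Ideal.toCotangent _ ⟨x, hx⟩)
  rw [LinearMap.comp_apply, KaehlerDifferential.kerCotangentToTensor_toCotangent, h, map_zero] at h1
  exact (Ideal.toCotangent_eq_zero _ ⟨x, hx⟩).mp h1.symm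

/-- An immersion is a closed immersion over an affine open avoiding the boundary of its image. -/
theorem chart_of_le {X' X : Scheme.{u}} (j : X' ⟶ X) [IsImmersion j] {W : X.Opens} (hW : IsAffineOpen W)
    (hW1 : W ≤ j.coborderRange) : IsAffineOpen (j ⁻¹ᵁ W) ∧ Function.Surjective (j.app W) := by
  let W' := j.coborderRange.ι ⁻¹ᵁ W
  have hW' : IsAffineOpen W' := hW.preimage_of_isOpenImmersion j.coborderRange.ι (by
    rw [Scheme.Opens.opensRange_ι]; exact hW1)
  have heq : j.liftCoborder ⁻¹ᵁ W' = j ⁻¹ᵁ W := by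
    rw [← Scheme.Hom.comp_preimage, Scheme.Hom.liftCoborder_ι]
  refine ⟨heq ▸ hW'.preimage j.liftCoborder, ?_⟩
  have h1 : Function.Surjective (j.coborderRange.ι.app W) := by
    haveI : IsIso (j.coborderRange.ι.app W) := Scheme.Hom.isIso_app _ W (by
      rw [Scheme.Opens.opensRange_ι]; exact hW1)
    exact (ConcreteCategory.bijective_of_isIso _).2
  have h2 := FComplLib.surjective_appLE j.liftCoborder W' hW' _ le_rfl rfl
  rw [← Scheme.Hom.app_eq_appLE] at h2
  have h3 : Function.Surjective ((j.liftCoborder ≫ j.coborderRange.ι).app W) := by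
    rw [Scheme.Hom.comp_app]
    exact h2.comp h1
  have key : ∀ {g : X' ⟶ X}, g = j → Function.Surjective (g.app W) → Function.Surjective (j.app W) := by
    rintro g rfl h; exact h
  exact key j.liftCoborder_ι h3

/-- Around a point of an immersion there are affine charts on which it is a closed immersion. -/
theorem exists_chart {X' X : Scheme.{u}} (j : X' ⟶ X) [IsImmersion j] (z : X') (O : X.Opens) (hz : j z ∈ O) :
    ∃ W : X.Opens, IsAffineOpen W ∧ j z ∈ W ∧ W ≤ O ∧ W ≤ j.coborderRange := by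
  have hzc : j z ∈ j.coborderRange := subset_coborder ⟨z, rfl⟩
  obtain ⟨W, hW, hzW, hWle⟩ := exists_isAffineOpen_mem_and_subset (show j z ∈ O ⊓ j.coborderRange from ⟨hz, hzc⟩)
  exact ⟨W, hW, hzW, le_trans hWle inf_le_left, le_trans hWle inf_le_right⟩

/-- The conormal map is a monomorphism when the composite is formally smooth. -/
theorem mono_of_formallySmooth_charts {X' X Y : Scheme.{u}} (j : X' ⟶ X)
    [IsImmersion j] [QuasiCompact j] (f : X ⟶ Y)
    (hf : ∀ {V : Y.Opens} {U : X'.Opens}, IsAffineOpen V → IsAffineOpen U → ∀ e : U ≤ (j ≫ f) ⁻¹ᵁ V,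
      ((j ≫ f).appLE V U e).hom.FormallySmooth)
    {Ω : X.Modules} {d : OmegaSh.Der f Ω} (hd : OmegaSh.IsUniversal d)
    {φ : Omega.conormal j ⟶ (Scheme.Modules.pullback j).obj Ω} (hφ : OmegaSh.IsConormalDiff j d φ) :
    Mono φ := by
  haveI : Coh.IsQCoh Ω := OmegaAffLib.isQCoh_of_isUniversal hd
  haveI : Coh.IsQCoh (ClSub.idealMod j.ker) := SweepSix.ConormalSpec.isQCoh_idealMod _
  haveI : Coh.IsQCoh ((Scheme.Modules.pullback j).obj Ω) := KFlatLib.isQCoh_pullback j Ω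
  haveI : Coh.IsQCoh (Omega.conormal j) := KFlatLib.isQCoh_pullback j (ClSub.idealMod j.ker)
  refine Groth.Agent.S13458.mono_of_injective_charts φ fun z => ?_
  obtain ⟨V, hV, hzV, -⟩ := exists_isAffineOpen_mem_and_subset (show f (j z) ∈ (⊤ : Y.Opens) from trivial)
  obtain ⟨W, hW, hzW, hWV, hWc⟩ := exists_chart j z (f ⁻¹ᵁ V) hzV
  obtain ⟨hU', hsurj⟩ := chart_of_le j hW hWc
  refine ⟨j ⁻¹ᵁ W, hU', hzW, ?_⟩
  have e₂ : j ⁻¹ᵁ W ≤ (j ≫ f) ⁻¹ᵁ V := j.preimage_mono hWV
  letI := (f.appLE V W hWV).hom.toAlgebra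
  letI := (j.app W).hom.toAlgebra
  letI := ((j ≫ f).appLE V (j ⁻¹ᵁ W) e₂).hom.toAlgebra
  haveI : IsScalarTower Γ(Y, V) Γ(X, W) Γ(X', j ⁻¹ᵁ W) := IsScalarTower.of_algebraMap_eq' (by
    show ((j ≫ f).appLE V (j ⁻¹ᵁ W) e₂).hom = (j.app W).hom.comp (f.appLE V W hWV).hom
    rw [← CommRingCat.hom_comp, Scheme.Hom.app_eq_appLE, Scheme.Hom.appLE_comp_appLE])
  haveI : Algebra.FormallySmooth Γ(Y, V) Γ(X', j ⁻¹ᵁ W) := hf hV hU' e₂
  obtain ⟨e, he⟩ := OmegaAffLib.exists_equiv_alg hd hV hW hWV rfl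
  -- the base change description of the two sides
  have halg : ∀ r, algebraMap Γ(X, W) Γ(X', j ⁻¹ᵁ W) r = (j.appLE W (j ⁻¹ᵁ W) le_rfl).hom r := fun r => by
    rw [← Scheme.Hom.app_eq_appLE]; rfl
  letI : Module Γ(X, W) Γ(KFlatLib.pb j Ω, j ⁻¹ᵁ W) := Module.compHom _ (j.app W).hom
  haveI : IsScalarTower Γ(X, W) Γ(X', j ⁻¹ᵁ W) Γ(KFlatLib.pb j Ω, j ⁻¹ᵁ W) :=
    IsScalarTower.of_algebraMap_smul fun a t => rfl
  let ψ : Γ(Ω, W) →ₗ[Γ(X, W)] Γ(KFlatLib.pb j Ω, j ⁻¹ᵁ W) :=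
    { toFun := KFlatLib.puSecLE j Ω le_rfl
      map_add' := map_add _
      map_smul' := fun r m => (KFlatLib.puSecLE_smul j Ω le_rfl r m).trans (by
        rw [← Scheme.Hom.app_eq_appLE]; rfl) }
  have hψ : IsBaseChange Γ(X', j ⁻¹ᵁ W) ψ :=
    KFlatLib.isBaseChange_puSec j Ω hW hU' le_rfl halg ψ fun _ => rfl
  let Q := ClSub.idealMod j.ker
  letI : Module Γ(X, W) Γ(KFlatLib.pb j Q, j ⁻¹ᵁ W) := Module.compHom _ (j.app W).hom
  haveI : IsScalarTower Γ(X, W) Γ(X', j ⁻¹ᵁ W) Γ(KFlatLib.pb j Q, j ⁻¹ᵁ W) :=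
    IsScalarTower.of_algebraMap_smul fun a t => rfl
  let θ : Γ(Q, W) →ₗ[Γ(X, W)] Γ(KFlatLib.pb j Q, j ⁻¹ᵁ W) :=
    { toFun := KFlatLib.puSecLE j Q le_rfl
      map_add' := map_add _
      map_smul' := fun r m => (KFlatLib.puSecLE_smul j Q le_rfl r m).trans (by
        rw [← Scheme.Hom.app_eq_appLE]; rfl) }
  have hθ : IsBaseChange Γ(X', j ⁻¹ᵁ W) θ :=
    KFlatLib.isBaseChange_puSec j Q hW hU' le_rfl halg θ fun _ => rfl
  have hself : ∀ (M : X.Modules) (m : Γ(M, W)),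
      KFlatLib.puSecLE j M (le_refl (j ⁻¹ᵁ W)) m = OmegaSh.pullSect j M W m := fun M m => by
    rw [KFlatLib.puSecLE_apply, Subsingleton.elim (homOfLE (le_refl (j ⁻¹ᵁ W))).op (𝟙 _),
      CategoryTheory.Functor.map_id]
    rfl
  have hθs : Function.Surjective θ := fun t => by
    obtain ⟨w, rfl⟩ := hθ.equiv.surjective t
    induction w using TensorProduct.induction_on with
    | zero => exact ⟨0, by simp⟩
    | tmul a m =>
      obtain ⟨b, rfl⟩ := hsurj a
      exact ⟨b • m, by rw [IsBaseChange.equiv_tmul, map_smul, ← algebraMap_smul Γ(X', j ⁻¹ᵁ W) b]; rfl⟩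
    | add a b ha hb =>
      obtain ⟨p, hp⟩ := ha
      obtain ⟨q, hq⟩ := hb
      exact ⟨p + q, by rw [map_add, map_add, hp, hq]⟩
  refine (injective_iff_map_eq_zero (φ.app (j ⁻¹ᵁ W)).hom).mpr fun t ht => ?_
  obtain ⟨s, rfl⟩ := hθs t
  have hφs : φ.app (j ⁻¹ᵁ W) (θ s) = ψ (d.app W (OmegaSh.idealSect j.ker W s)) :=
    ((congrArg (φ.app (j ⁻¹ᵁ W)) (hself Q s)).trans (hφ W s)).trans (hself Ω _).symm
  replace ht := hφs.symm.trans ht
  let x := OmegaSh.idealSect j.ker W s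
  have hx : x ∈ RingHom.ker (algebraMap Γ(X, W) Γ(X', j ⁻¹ᵁ W)) := ConormalSecLib.app_idealSect j W s
  have hsq : x ∈ RingHom.ker (algebraMap Γ(X, W) Γ(X', j ⁻¹ᵁ W)) ^ 2 := by
    refine mem_ker_sq_of_tmul_D_eq_zero (R := Γ(Y, V)) hsurj hx ?_
    apply (TensorProduct.congr (LinearEquiv.refl Γ(X, W) Γ(X', j ⁻¹ᵁ W)) e).injective
    apply hψ.equiv.injective
    rw [map_zero, map_zero, TensorProduct.congr_tmul, IsBaseChange.equiv_tmul, he, LinearEquiv.refl_apply, one_smul]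
    exact ht
  -- the sections of the ideal in the square die in the conormal sheaf
  have main : ∀ y ∈ RingHom.ker (algebraMap Γ(X, W) Γ(X', j ⁻¹ᵁ W)) ^ 2, ∃ m : Γ(Q, W),
      OmegaSh.idealSect j.ker W m = y ∧ θ m = 0 := by
    intro y hy
    rw [pow_two] at hy
    refine Submodule.mul_induction_on hy (fun a ha b hb => ?_) fun a b ⟨m, hm, hm'⟩ ⟨n, hn, hn'⟩ =>
      ⟨m + n, by rw [map_add, hm, hn], by rw [map_add, hm', hn', add_zero]⟩
    refine ⟨a • ConormalSecLib.lift j W b hb, ?_, ?_⟩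
    · exact (ConormalSecLib.idealSect_smul j W a _).trans (congrArg (a * ·) (ConormalSecLib.idealSect_lift j W b hb))
    · rw [map_smul, ← algebraMap_smul Γ(X', j ⁻¹ᵁ W) a, RingHom.mem_ker.mp ha, zero_smul]
  obtain ⟨m, hm, hm'⟩ := main x hsq
  rw [ConormalSecLib.idealSect_injective j W (hm.trans rfl : _ = OmegaSh.idealSect j.ker W s)] at hm'
  exact hm'

/-- Version with the lifting property. -/
theorem mono_of_formallySmooth {X' X Y : Scheme.{u}} (j : X' ⟶ X)
    [IsImmersion j] [QuasiCompact j] (f : X ⟶ Y) (hf : MoreMor.IsFormallySmoothHom (j ≫ f))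
    {Ω : X.Modules} {d : OmegaSh.Der f Ω} (hd : OmegaSh.IsUniversal d)
    {φ : Omega.conormal j ⟶ (Scheme.Modules.pullback j).obj Ω} (hφ : OmegaSh.IsConormalDiff j d φ) :
    Mono φ :=
  mono_of_formallySmooth_charts j f (fun hV hU e => OmegaAffLib.formallySmooth_appLE' (j ≫ f) hf hV hU e) hd hφ

end ConormalInjLib
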